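import Groth.Prelude.Def_W4c3irrattreebunCvg
import Mathlib

/-!
# Covering gonality and the field of constants
-/

set_option autoImplicit false
set_option linter.style.haveILetI false
universe u

namespace GrothLib.Cvg7

open W4c3irrattreebun IntermediateField

variable (k K : Type u) [Field k] [Field K] [Algebra k K]

/-- A diagram over the field of constants is a diagram over the base. -/
noncomputable def restrictDiag {e : ℕ} (D : CovDiag.{u} (algebraicClosure k K) K e) : CovDiag.{u} k K e :=
  letI : Algebra k D.KC := ((algebraMap K D.KC).comp (algebraMap k K)).toAlgebra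
  letI : Algebra k D.KB := ((algebraMap (algebraicClosure k K) D.KB).comp (algebraMap k (algebraicClosure k K))).toAlgebra
  haveI : IsScalarTower k K D.KC := IsScalarTower.of_algebraMap_eq' rfl
  haveI : IsScalarTower k D.KB D.KC := IsScalarTower.of_algebraMap_eq fun x => by
    show algebraMap K D.KC (algebraMap (algebraicClosure k K) K (algebraMap k (algebraicClosure k K) x)) =
      algebraMap D.KB D.KC (algebraMap (algebraicClosure k K) D.KB (algebraMap k (algebraicClosure k K) x))
    exact (@IsScalarTower.algebraMap_apply (algebraicClosure k K) K D.KC _ _ _ _ D.algKC D.algkC D.towerK _).symm.trans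
      (@IsScalarTower.algebraMap_apply (algebraicClosure k K) D.KB D.KC _ _ _ D.algkB D.algBC D.algkC D.towerB _)
  { KC := D.KC, KB := D.KB, t := D.t, transc := D.transc, finrank_eq := D.finrank_eq }

theorem restrictDiag_sep {e : ℕ} (D : CovDiag.{u} (algebraicClosure k K) K e) (h : Algebra.IsSeparable K D.KC) :
    Algebra.IsSeparable K (restrictDiag k K D).KC := h

set_option synthInstance.maxHeartbeats 400000 in
set_option maxHeartbeats 1000000 in
theorem exists_extend {e : ℕ} (D : CovDiag.{u} k K e) :
    ∃ (e' : ℕ) (D' : CovDiag.{u} (algebraicClosure k K) K e'), e' ≤ e ∧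
      (Algebra.IsSeparable K D.KC → Algebra.IsSeparable K D'.KC) := by
  let ι : algebraicClosure k K →+* D.KC := (algebraMap K D.KC).comp (algebraMap (algebraicClosure k K) K)
  let F : IntermediateField D.KB D.KC := adjoin D.KB (Set.range ι)
  haveI halg : Algebra.IsAlgebraic D.KB F := by
    refine IntermediateField.isAlgebraic_adjoin ?_
    rintro _ ⟨x, rfl⟩
    have h1 : IsAlgebraic k (algebraMap (algebraicClosure k K) K x) := mem_algebraicClosure_iff.1 x.2
    have h2 : IsAlgebraic k (ι x) := h1.algHom (IsScalarTower.toAlgHom k K D.KC)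
    exact (h2.extendScalars (algebraMap k D.KB).injective).isIntegral
  haveI : IsScalarTower (algebraicClosure k K) K D.KC := inferInstance
  letI : Algebra (algebraicClosure k K) F :=
    (ι.codRestrict F.toSubfield fun x => subset_adjoin D.KB (Set.range ι) ⟨x, rfl⟩).toAlgebra
  haveI : IsScalarTower (algebraicClosure k K) F D.KC := IsScalarTower.of_algebraMap_eq' rfl
  have htr : Transcendental F D.t := fun h => D.transc (h.restrictScalars D.KB)
  let F1 : IntermediateField D.KB D.KC := adjoin D.KB {D.t}
  let G : IntermediateField F D.KC := adjoin F {D.t}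
  have hle : F1 ≤ G.restrictScalars D.KB := by
    rw [adjoin_le_iff, Set.singleton_subset_iff]
    exact mem_adjoin_simple_self F D.t
  letI : Algebra F1 G := (IntermediateField.inclusion hle).toRingHom.toAlgebra
  letI : Module F1 G := Algebra.toModule
  letI : SMul F1 G := Algebra.toSMul
  haveI : IsScalarTower F1 G D.KC := IsScalarTower.of_algebraMap_eq' rfl
  haveI hfin : Module.Finite G D.KC := Module.Finite.right F1 G D.KC
  have hle' : Module.finrank G D.KC ≤ e := by
    have h : Module.finrank F1 G * Module.finrank G D.KC = e := (Module.finrank_mul_finrank F1 G D.KC).trans D.finrank_eq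
    have hp : 0 < e := D.finrank_eq ▸ Module.finrank_pos
    have h0 : 0 < Module.finrank F1 G := Nat.pos_of_ne_zero fun h0 => by simp [h0] at h; omega
    exact (Nat.le_mul_of_pos_left _ h0).trans h.le
  exact ⟨_, { KC := D.KC, KB := F, t := D.t, transc := htr, finrank_eq := rfl }, hle', id⟩

theorem cvg_eq : cvg k K = cvg (algebraicClosure k K) K := by
  unfold cvg
  rcases Set.eq_empty_or_nonempty {e : ℕ | Nonempty (CovDiag.{u} k K e)} with h | h
  · have h' : {e : ℕ | Nonempty (CovDiag.{u} (algebraicClosure k K) K e)} = ∅ :=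
      Set.eq_empty_iff_forall_notMem.2 fun e ⟨D⟩ => Set.eq_empty_iff_forall_notMem.1 h e ⟨restrictDiag k K D⟩
    rw [h, h']
  obtain ⟨D⟩ := Nat.sInf_mem h
  obtain ⟨e', D', he, -⟩ := exists_extend k K D
  refine le_antisymm ?_ ((Nat.sInf_le (s := {e : ℕ | Nonempty (CovDiag.{u} (algebraicClosure k K) K e)}) ⟨D'⟩).trans he)
  obtain ⟨D''⟩ := Nat.sInf_mem (s := {e : ℕ | Nonempty (CovDiag.{u} (algebraicClosure k K) K e)}) ⟨e', ⟨D'⟩⟩
  exact Nat.sInf_le ⟨restrictDiag k K D''⟩

theorem scvg_eq : scvg k K = scvg (algebraicClosure k K) K := by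
  unfold scvg
  rcases Set.eq_empty_or_nonempty {e : ℕ | ∃ D : CovDiag.{u} k K e, Algebra.IsSeparable K D.KC} with h | h
  · have h' : {e : ℕ | ∃ D : CovDiag.{u} (algebraicClosure k K) K e, Algebra.IsSeparable K D.KC} = ∅ :=
      Set.eq_empty_iff_forall_notMem.2 fun e ⟨D, hD⟩ =>
        Set.eq_empty_iff_forall_notMem.1 h e ⟨restrictDiag k K D, restrictDiag_sep k K D hD⟩
    rw [h, h']
  obtain ⟨D, hD⟩ := Nat.sInf_mem h
  obtain ⟨e', D', he, hs⟩ := exists_extend k K D
  refine le_antisymm ?_ ((Nat.sInf_le (s := {e : ℕ | ∃ D : CovDiag.{u} (algebraicClosure k K) K e, Algebra.IsSeparable K D.KC}) ⟨D', hs hD⟩).trans he)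
  obtain ⟨D'', hD''⟩ := Nat.sInf_mem (s := {e : ℕ | ∃ D : CovDiag.{u} (algebraicClosure k K) K e, Algebra.IsSeparable K D.KC}) ⟨e', D', hs hD⟩
  exact Nat.sInf_le ⟨restrictDiag k K D'', restrictDiag_sep k K D'' hD''⟩

end GrothLib.Cvg7
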